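import Mathlib
import Cfsg.Agent.Lib.Helper56.TC
import Cfsg.Agent.Lib.Helper56.RSz.C0
import Cfsg.Agent.Lib.Helper56.RSz.C1
import Cfsg.Agent.Lib.Helper56.RSz.C2
import Cfsg.Agent.Lib.Helper56.RSz.C3
import Cfsg.Agent.Lib.Helper56.RSz.C4
import Cfsg.Agent.Lib.Helper56.RSz.C5
import Cfsg.Agent.Lib.Helper56.RSz.C6
import Cfsg.Agent.Lib.Helper56.RSz.C7
import Cfsg.Agent.Lib.Helper56.RSz.C8
import Cfsg.Agent.Lib.Helper56.RSz.C9
import Cfsg.Agent.Lib.Helper56.RSz.C10
import Cfsg.Agent.Lib.Helper56.RSz.C11
import Cfsg.Agent.Lib.Helper56.RSz.C12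
import Cfsg.Agent.Lib.Helper56.RSz.C13
import Cfsg.Agent.Lib.Helper56.RSz.C14
import Cfsg.Agent.Lib.Helper56.RSz.C15
import Cfsg.Agent.Lib.Helper56.RSz.C16
import Cfsg.Agent.Lib.Helper56.RSz.C17
import Cfsg.Agent.Lib.Helper56.RSz.C18
import Cfsg.Agent.Lib.Helper56.RSz.C19
import Cfsg.Agent.Lib.Helper56.RSz.C20
import Cfsg.Agent.Lib.Helper56.RSz.C21
import Cfsg.Agent.Lib.Helper56.RSz.C22
import Cfsg.Agent.Lib.Helper56.RSz.C23
import Cfsg.Agent.Lib.Helper56.RSz.C24
import Cfsg.Agent.Lib.Helper56.RSz.C25
import Cfsg.Agent.Lib.Helper56.RSz.C26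
import Cfsg.Agent.Lib.Helper56.RSz.C27
import Cfsg.Agent.Lib.Helper56.RSz.C28
import Cfsg.Agent.Lib.Helper56.RSz.C29
import Cfsg.Agent.Lib.Helper56.RSz.C30
import Cfsg.Agent.Lib.Helper56.RSz.C31
import Cfsg.Agent.Lib.Helper56.RSz.C32
import Cfsg.Agent.Lib.Helper56.RSz.C33
import Cfsg.Agent.Lib.Helper56.RSz.C34
import Cfsg.Agent.Lib.Helper56.RSz.C35
import Cfsg.Agent.Lib.Helper56.RSz.C36
import Cfsg.Agent.Lib.Helper56.RSz.C37
import Cfsg.Agent.Lib.Helper56.RSz.C38
import Cfsg.Agent.Lib.Helper56.RSz.C39
import Cfsg.Agent.Lib.Helper56.RSz.C40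
import Cfsg.Agent.Lib.Helper56.RSz.C41
import Cfsg.Agent.Lib.Helper56.RSz.C42
import Cfsg.Agent.Lib.Helper56.RSz.C43
import Cfsg.Agent.Lib.Helper56.RSz.C44
import Cfsg.Agent.Lib.Helper56.RSz.C45
import Cfsg.Agent.Lib.Helper56.RSz.C46
import Cfsg.Agent.Lib.Helper56.RSz.C47
import Cfsg.Agent.Lib.Helper56.RSz.C48
import Cfsg.Agent.Lib.Helper56.RSz.C49
import Cfsg.Agent.Lib.Helper56.RSz.C50
import Cfsg.Agent.Lib.Helper56.RSz.C51
import Cfsg.Agent.Lib.Helper56.RSz.C52
import Cfsg.Agent.Lib.Helper56.RSz.C53
import Cfsg.Agent.Lib.Helper56.RSz.C54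
import Cfsg.Agent.Lib.Helper56.RSz.C55
import Cfsg.Agent.Lib.Helper56.RSz.C56
import Cfsg.Agent.Lib.Helper56.RSz.C57
import Cfsg.Agent.Lib.Helper56.RSz.C58
import Cfsg.Agent.Lib.Helper56.RSz.C59
import Cfsg.Agent.Lib.Helper56.RSz.C60
import Cfsg.Agent.Lib.Helper56.RSz.C61
set_option autoImplicit false
set_option maxRecDepth 1000000

namespace Cfsg.Agent.Lib.Helper56.RSz

open Cfsg.Agent.Lib.Helper56.TC Cfsg.Agent.Lib.Helper56.TC.Tabs

theorem uN_327 : Upto T.chkName 327 := upto_add (upto_zero T.chkName) rfl cN_0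
theorem uN_633 : Upto T.chkName 633 := upto_add uN_327 rfl cN_327
theorem uN_944 : Upto T.chkName 944 := upto_add uN_633 rfl cN_633
theorem uN_1255 : Upto T.chkName 1255 := upto_add uN_944 rfl cN_944
theorem uN_1546 : Upto T.chkName 1546 := upto_add uN_1255 rfl cN_1255
theorem uN_1906 : Upto T.chkName 1906 := upto_add uN_1546 rfl cN_1546
theorem uN_2269 : Upto T.chkName 2269 := upto_add uN_1906 rfl cN_1906
theorem uN_2609 : Upto T.chkName 2609 := upto_add uN_2269 rfl cN_2269
theorem uN_2916 : Upto T.chkName 2916 := upto_add uN_2609 rfl cN_2609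
theorem uN_3271 : Upto T.chkName 3271 := upto_add uN_2916 rfl cN_2916
theorem uN_3638 : Upto T.chkName 3638 := upto_add uN_3271 rfl cN_3271
theorem uN_3978 : Upto T.chkName 3978 := upto_add uN_3638 rfl cN_3638
theorem uN_4315 : Upto T.chkName 4315 := upto_add uN_3978 rfl cN_3978
theorem uN_4650 : Upto T.chkName 4650 := upto_add uN_4315 rfl cN_4315
theorem uN_4967 : Upto T.chkName 4967 := upto_add uN_4650 rfl cN_4650
theorem uN_5316 : Upto T.chkName 5316 := upto_add uN_4967 rfl cN_4967
theorem uN_5640 : Upto T.chkName 5640 := upto_add uN_5316 rfl cN_5316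
theorem uN_5969 : Upto T.chkName 5969 := upto_add uN_5640 rfl cN_5640
theorem uN_6296 : Upto T.chkName 6296 := upto_add uN_5969 rfl cN_5969
theorem uN_6631 : Upto T.chkName 6631 := upto_add uN_6296 rfl cN_6296
theorem uN_6962 : Upto T.chkName 6962 := upto_add uN_6631 rfl cN_6631
theorem uN_7297 : Upto T.chkName 7297 := upto_add uN_6962 rfl cN_6962
theorem uN_7666 : Upto T.chkName 7666 := upto_add uN_7297 rfl cN_7297
theorem uN_7972 : Upto T.chkName 7972 := upto_add uN_7666 rfl cN_7666
theorem uN_8311 : Upto T.chkName 8311 := upto_add uN_7972 rfl cN_7972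
theorem uN_8642 : Upto T.chkName 8642 := upto_add uN_8311 rfl cN_8311
theorem uN_8948 : Upto T.chkName 8948 := upto_add uN_8642 rfl cN_8642
theorem uN_9220 : Upto T.chkName 9220 := upto_add uN_8948 rfl cN_8948
theorem uN_9516 : Upto T.chkName 9516 := upto_add uN_9220 rfl cN_9220
theorem uN_9833 : Upto T.chkName 9833 := upto_add uN_9516 rfl cN_9516
theorem uN_10108 : Upto T.chkName 10108 := upto_add uN_9833 rfl cN_9833
theorem uN_10412 : Upto T.chkName 10412 := upto_add uN_10108 rfl cN_10108
theorem uN_10707 : Upto T.chkName 10707 := upto_add uN_10412 rfl cN_10412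
theorem uN_11030 : Upto T.chkName 11030 := upto_add uN_10707 rfl cN_10707
theorem uN_11379 : Upto T.chkName 11379 := upto_add uN_11030 rfl cN_11030
theorem uN_11680 : Upto T.chkName 11680 := upto_add uN_11379 rfl cN_11379
theorem uN_11980 : Upto T.chkName 11980 := upto_add uN_11680 rfl cN_11680
theorem uN_12340 : Upto T.chkName 12340 := upto_add uN_11980 rfl cN_11980
theorem uN_12685 : Upto T.chkName 12685 := upto_add uN_12340 rfl cN_12340
theorem uN_13019 : Upto T.chkName 13019 := upto_add uN_12685 rfl cN_12685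
theorem uN_13388 : Upto T.chkName 13388 := upto_add uN_13019 rfl cN_13019
theorem uN_13796 : Upto T.chkName 13796 := upto_add uN_13388 rfl cN_13388
theorem uN_14163 : Upto T.chkName 14163 := upto_add uN_13796 rfl cN_13796
theorem uN_14600 : Upto T.chkName 14600 := upto_add uN_14163 rfl cN_14163
theorem uN_14998 : Upto T.chkName 14998 := upto_add uN_14600 rfl cN_14600
theorem uN_15433 : Upto T.chkName 15433 := upto_add uN_14998 rfl cN_14998
theorem uN_15846 : Upto T.chkName 15846 := upto_add uN_15433 rfl cN_15433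
theorem uN_16270 : Upto T.chkName 16270 := upto_add uN_15846 rfl cN_15846
theorem uN_16611 : Upto T.chkName 16611 := upto_add uN_16270 rfl cN_16270
theorem uN_17004 : Upto T.chkName 17004 := upto_add uN_16611 rfl cN_16611
theorem uN_17318 : Upto T.chkName 17318 := upto_add uN_17004 rfl cN_17004
theorem uN_17699 : Upto T.chkName 17699 := upto_add uN_17318 rfl cN_17318
theorem uN_18061 : Upto T.chkName 18061 := upto_add uN_17699 rfl cN_17699
theorem uN_18467 : Upto T.chkName 18467 := upto_add uN_18061 rfl cN_18061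
theorem uN_18873 : Upto T.chkName 18873 := upto_add uN_18467 rfl cN_18467
theorem uN_19252 : Upto T.chkName 19252 := upto_add uN_18873 rfl cN_18873
theorem uN_19642 : Upto T.chkName 19642 := upto_add uN_19252 rfl cN_19252
theorem uN_20007 : Upto T.chkName 20007 := upto_add uN_19642 rfl cN_19642
theorem uN_20452 : Upto T.chkName 20452 := upto_add uN_20007 rfl cN_20007
theorem uN_20884 : Upto T.chkName 20884 := upto_add uN_20452 rfl cN_20452
theorem uN_21306 : Upto T.chkName 21306 := upto_add uN_20884 rfl cN_20884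
theorem uN_21734 : Upto T.chkName 21734 := upto_add uN_21306 rfl cN_21306
theorem uN_22180 : Upto T.chkName 22180 := upto_add uN_21734 rfl cN_21734
theorem uN_22617 : Upto T.chkName 22617 := upto_add uN_22180 rfl cN_22180
theorem uN_23054 : Upto T.chkName 23054 := upto_add uN_22617 rfl cN_22617
theorem uN_23507 : Upto T.chkName 23507 := upto_add uN_23054 rfl cN_23054
theorem uN_23965 : Upto T.chkName 23965 := upto_add uN_23507 rfl cN_23507
theorem uN_24416 : Upto T.chkName 24416 := upto_add uN_23965 rfl cN_23965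
theorem uN_24890 : Upto T.chkName 24890 := upto_add uN_24416 rfl cN_24416
theorem uN_25341 : Upto T.chkName 25341 := upto_add uN_24890 rfl cN_24890
theorem uN_25786 : Upto T.chkName 25786 := upto_add uN_25341 rfl cN_25341
theorem uN_26256 : Upto T.chkName 26256 := upto_add uN_25786 rfl cN_25786
theorem uN_26706 : Upto T.chkName 26706 := upto_add uN_26256 rfl cN_26256
theorem uN_27100 : Upto T.chkName 27100 := upto_add uN_26706 rfl cN_26706
theorem uN_27556 : Upto T.chkName 27556 := upto_add uN_27100 rfl cN_27100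
theorem uN_28004 : Upto T.chkName 28004 := upto_add uN_27556 rfl cN_27556
theorem uN_28462 : Upto T.chkName 28462 := upto_add uN_28004 rfl cN_28004
theorem uN_28863 : Upto T.chkName 28863 := upto_add uN_28462 rfl cN_28462
theorem uN_29260 : Upto T.chkName 29260 := upto_add uN_28863 rfl cN_28863
theorem uN_29685 : Upto T.chkName 29685 := upto_add uN_29260 rfl cN_29260
theorem uN_30078 : Upto T.chkName 30078 := upto_add uN_29685 rfl cN_29685
theorem uN_30455 : Upto T.chkName 30455 := upto_add uN_30078 rfl cN_30078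
theorem uN_30826 : Upto T.chkName 30826 := upto_add uN_30455 rfl cN_30455
theorem uN_31214 : Upto T.chkName 31214 := upto_add uN_30826 rfl cN_30826
theorem uN_31586 : Upto T.chkName 31586 := upto_add uN_31214 rfl cN_31214
theorem uN_31990 : Upto T.chkName 31990 := upto_add uN_31586 rfl cN_31586
theorem uN_32393 : Upto T.chkName 32393 := upto_add uN_31990 rfl cN_31990
theorem uN_32756 : Upto T.chkName 32756 := upto_add uN_32393 rfl cN_32393
theorem uN_33146 : Upto T.chkName 33146 := upto_add uN_32756 rfl cN_32756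
theorem uN_33540 : Upto T.chkName 33540 := upto_add uN_33146 rfl cN_33146
theorem uN_33903 : Upto T.chkName 33903 := upto_add uN_33540 rfl cN_33540
theorem uN_34281 : Upto T.chkName 34281 := upto_add uN_33903 rfl cN_33903
theorem uN_34657 : Upto T.chkName 34657 := upto_add uN_34281 rfl cN_34281
theorem uN_35062 : Upto T.chkName 35062 := upto_add uN_34657 rfl cN_34657
theorem uN_35445 : Upto T.chkName 35445 := upto_add uN_35062 rfl cN_35062
theorem uN_35827 : Upto T.chkName 35827 := upto_add uN_35445 rfl cN_35445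
theorem uN_36219 : Upto T.chkName 36219 := upto_add uN_35827 rfl cN_35827
theorem uN_36650 : Upto T.chkName 36650 := upto_add uN_36219 rfl cN_36219
theorem uN_37134 : Upto T.chkName 37134 := upto_add uN_36650 rfl cN_36650
theorem uN_37603 : Upto T.chkName 37603 := upto_add uN_37134 rfl cN_37134
theorem uN_38095 : Upto T.chkName 38095 := upto_add uN_37603 rfl cN_37603
theorem uN_38580 : Upto T.chkName 38580 := upto_add uN_38095 rfl cN_38095
theorem uN_39057 : Upto T.chkName 39057 := upto_add uN_38580 rfl cN_38580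
theorem uN_39517 : Upto T.chkName 39517 := upto_add uN_39057 rfl cN_39057
theorem uN_40000 : Upto T.chkName 40000 := upto_add uN_39517 rfl cN_39517
theorem uN_40488 : Upto T.chkName 40488 := upto_add uN_40000 rfl cN_40000
theorem uN_40976 : Upto T.chkName 40976 := upto_add uN_40488 rfl cN_40488
theorem uN_41484 : Upto T.chkName 41484 := upto_add uN_40976 rfl cN_40976
theorem uN_42000 : Upto T.chkName 42000 := upto_add uN_41484 rfl cN_41484
theorem uN_42503 : Upto T.chkName 42503 := upto_add uN_42000 rfl cN_42000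
theorem uN_43015 : Upto T.chkName 43015 := upto_add uN_42503 rfl cN_42503
theorem uN_43501 : Upto T.chkName 43501 := upto_add uN_43015 rfl cN_43015
theorem uN_43990 : Upto T.chkName 43990 := upto_add uN_43501 rfl cN_43501
theorem uN_44491 : Upto T.chkName 44491 := upto_add uN_43990 rfl cN_43990
theorem uN_44978 : Upto T.chkName 44978 := upto_add uN_44491 rfl cN_44491
theorem uN_45470 : Upto T.chkName 45470 := upto_add uN_44978 rfl cN_44978
theorem uN_45972 : Upto T.chkName 45972 := upto_add uN_45470 rfl cN_45470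
theorem uN_46472 : Upto T.chkName 46472 := upto_add uN_45972 rfl cN_45972
theorem uN_46970 : Upto T.chkName 46970 := upto_add uN_46472 rfl cN_46472
theorem uN_47464 : Upto T.chkName 47464 := upto_add uN_46970 rfl cN_46970
theorem uN_47963 : Upto T.chkName 47963 := upto_add uN_47464 rfl cN_47464
theorem uN_48457 : Upto T.chkName 48457 := upto_add uN_47963 rfl cN_47963
theorem uN_48971 : Upto T.chkName 48971 := upto_add uN_48457 rfl cN_48457
theorem uN_49470 : Upto T.chkName 49470 := upto_add uN_48971 rfl cN_48971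
theorem uN_49971 : Upto T.chkName 49971 := upto_add uN_49470 rfl cN_49470
theorem uN_50472 : Upto T.chkName 50472 := upto_add uN_49971 rfl cN_49971
theorem uN_50977 : Upto T.chkName 50977 := upto_add uN_50472 rfl cN_50472
theorem uN_51489 : Upto T.chkName 51489 := upto_add uN_50977 rfl cN_50977
theorem uN_52001 : Upto T.chkName 52001 := upto_add uN_51489 rfl cN_51489
theorem uN_52491 : Upto T.chkName 52491 := upto_add uN_52001 rfl cN_52001
theorem uN_52982 : Upto T.chkName 52982 := upto_add uN_52491 rfl cN_52491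
theorem uN_53475 : Upto T.chkName 53475 := upto_add uN_52982 rfl cN_52982
theorem uN_53978 : Upto T.chkName 53978 := upto_add uN_53475 rfl cN_53475
theorem uN_54473 : Upto T.chkName 54473 := upto_add uN_53978 rfl cN_53978
theorem uN_54978 : Upto T.chkName 54978 := upto_add uN_54473 rfl cN_54473
theorem uN_55483 : Upto T.chkName 55483 := upto_add uN_54978 rfl cN_54978
theorem uN_55982 : Upto T.chkName 55982 := upto_add uN_55483 rfl cN_55483
theorem uN_56493 : Upto T.chkName 56493 := upto_add uN_55982 rfl cN_55982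
theorem uN_56984 : Upto T.chkName 56984 := upto_add uN_56493 rfl cN_56493
theorem uN_57484 : Upto T.chkName 57484 := upto_add uN_56984 rfl cN_56984
theorem uN_57958 : Upto T.chkName 57958 := upto_add uN_57484 rfl cN_57484
theorem uN_58387 : Upto T.chkName 58387 := upto_add uN_57958 rfl cN_57958
theorem uN_58748 : Upto T.chkName 58748 := upto_add uN_58387 rfl cN_58387
theorem uN_59117 : Upto T.chkName 59117 := upto_add uN_58748 rfl cN_58748
theorem uN_59457 : Upto T.chkName 59457 := upto_add uN_59117 rfl cN_59117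
theorem uN_59820 : Upto T.chkName 59820 := upto_add uN_59457 rfl cN_59457
theorem uN_60179 : Upto T.chkName 60179 := upto_add uN_59820 rfl cN_59820
theorem uN_60556 : Upto T.chkName 60556 := upto_add uN_60179 rfl cN_60179
theorem uN_60917 : Upto T.chkName 60917 := upto_add uN_60556 rfl cN_60556
theorem uN_61307 : Upto T.chkName 61307 := upto_add uN_60917 rfl cN_60917
theorem uN_61683 : Upto T.chkName 61683 := upto_add uN_61307 rfl cN_61307
theorem uN_62046 : Upto T.chkName 62046 := upto_add uN_61683 rfl cN_61683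
theorem uN_62464 : Upto T.chkName 62464 := upto_add uN_62046 rfl cN_62046
theorem uN_62820 : Upto T.chkName 62820 := upto_add uN_62464 rfl cN_62464
theorem uN_63204 : Upto T.chkName 63204 := upto_add uN_62820 rfl cN_62820
theorem uN_63540 : Upto T.chkName 63540 := upto_add uN_63204 rfl cN_63204
theorem uN_63950 : Upto T.chkName 63950 := upto_add uN_63540 rfl cN_63540
theorem uN_64317 : Upto T.chkName 64317 := upto_add uN_63950 rfl cN_63950
theorem uN_64694 : Upto T.chkName 64694 := upto_add uN_64317 rfl cN_64317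
theorem uN_65113 : Upto T.chkName 65113 := upto_add uN_64694 rfl cN_64694
theorem uN_65600 : Upto T.chkName 65600 := upto_add uN_65113 rfl cN_65113
theorem uN_66063 : Upto T.chkName 66063 := upto_add uN_65600 rfl cN_65600
theorem uN_66402 : Upto T.chkName 66402 := upto_add uN_66063 rfl cN_66063
theorem uN_66767 : Upto T.chkName 66767 := upto_add uN_66402 rfl cN_66402
theorem uN_67158 : Upto T.chkName 67158 := upto_add uN_66767 rfl cN_66767
theorem uN_67534 : Upto T.chkName 67534 := upto_add uN_67158 rfl cN_67158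
theorem uN_67915 : Upto T.chkName 67915 := upto_add uN_67534 rfl cN_67534
theorem uN_68328 : Upto T.chkName 68328 := upto_add uN_67915 rfl cN_67915
theorem uN_68720 : Upto T.chkName 68720 := upto_add uN_68328 rfl cN_68328
theorem uN_69099 : Upto T.chkName 69099 := upto_add uN_68720 rfl cN_68720
theorem uN_69489 : Upto T.chkName 69489 := upto_add uN_69099 rfl cN_69099
theorem uN_69831 : Upto T.chkName 69831 := upto_add uN_69489 rfl cN_69489
theorem uN_70183 : Upto T.chkName 70183 := upto_add uN_69831 rfl cN_69831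
theorem uN_70563 : Upto T.chkName 70563 := upto_add uN_70183 rfl cN_70183
theorem uN_70933 : Upto T.chkName 70933 := upto_add uN_70563 rfl cN_70563
theorem uN_71318 : Upto T.chkName 71318 := upto_add uN_70933 rfl cN_70933
theorem uN_71703 : Upto T.chkName 71703 := upto_add uN_71318 rfl cN_71318
theorem uN_72082 : Upto T.chkName 72082 := upto_add uN_71703 rfl cN_71703
theorem uN_72472 : Upto T.chkName 72472 := upto_add uN_72082 rfl cN_72082
theorem uN_72870 : Upto T.chkName 72870 := upto_add uN_72472 rfl cN_72472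
theorem uN_73244 : Upto T.chkName 73244 := upto_add uN_72870 rfl cN_72870
theorem uN_73664 : Upto T.chkName 73664 := upto_add uN_73244 rfl cN_73244
theorem uN_74100 : Upto T.chkName 74100 := upto_add uN_73664 rfl cN_73664
theorem uN_74519 : Upto T.chkName 74519 := upto_add uN_74100 rfl cN_74100
theorem uN_74931 : Upto T.chkName 74931 := upto_add uN_74519 rfl cN_74519
theorem uN_75349 : Upto T.chkName 75349 := upto_add uN_74931 rfl cN_74931
theorem uN_75764 : Upto T.chkName 75764 := upto_add uN_75349 rfl cN_75349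
theorem uN_76200 : Upto T.chkName 76200 := upto_add uN_75764 rfl cN_75764
theorem uN_76615 : Upto T.chkName 76615 := upto_add uN_76200 rfl cN_76200
theorem uN_77069 : Upto T.chkName 77069 := upto_add uN_76615 rfl cN_76615
theorem uN_77562 : Upto T.chkName 77562 := upto_add uN_77069 rfl cN_77069
theorem uN_78028 : Upto T.chkName 78028 := upto_add uN_77562 rfl cN_77562
theorem uN_78504 : Upto T.chkName 78504 := upto_add uN_78028 rfl cN_78028
theorem uN_79001 : Upto T.chkName 79001 := upto_add uN_78504 rfl cN_78504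
theorem uN_79494 : Upto T.chkName 79494 := upto_add uN_79001 rfl cN_79001
theorem uN_79995 : Upto T.chkName 79995 := upto_add uN_79494 rfl cN_79494
theorem uN_80459 : Upto T.chkName 80459 := upto_add uN_79995 rfl cN_79995
theorem uN_80916 : Upto T.chkName 80916 := upto_add uN_80459 rfl cN_80459
theorem uN_81353 : Upto T.chkName 81353 := upto_add uN_80916 rfl cN_80916
theorem uN_81814 : Upto T.chkName 81814 := upto_add uN_81353 rfl cN_81353
theorem uN_82232 : Upto T.chkName 82232 := upto_add uN_81814 rfl cN_81814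
theorem uN_82610 : Upto T.chkName 82610 := upto_add uN_82232 rfl cN_82232
theorem uN_82994 : Upto T.chkName 82994 := upto_add uN_82610 rfl cN_82610
theorem uN_83376 : Upto T.chkName 83376 := upto_add uN_82994 rfl cN_82994
theorem uN_83758 : Upto T.chkName 83758 := upto_add uN_83376 rfl cN_83376
theorem uN_84167 : Upto T.chkName 84167 := upto_add uN_83758 rfl cN_83758
theorem uN_84535 : Upto T.chkName 84535 := upto_add uN_84167 rfl cN_84167
theorem uN_84932 : Upto T.chkName 84932 := upto_add uN_84535 rfl cN_84535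
theorem uN_85331 : Upto T.chkName 85331 := upto_add uN_84932 rfl cN_84932
theorem uN_85739 : Upto T.chkName 85739 := upto_add uN_85331 rfl cN_85331
theorem uN_86103 : Upto T.chkName 86103 := upto_add uN_85739 rfl cN_85739
theorem uN_86516 : Upto T.chkName 86516 := upto_add uN_86103 rfl cN_86103
theorem uN_86909 : Upto T.chkName 86909 := upto_add uN_86516 rfl cN_86516
theorem uN_87350 : Upto T.chkName 87350 := upto_add uN_86909 rfl cN_86909
theorem uN_87750 : Upto T.chkName 87750 := upto_add uN_87350 rfl cN_87350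
theorem uN_88180 : Upto T.chkName 88180 := upto_add uN_87750 rfl cN_87750
theorem uN_88599 : Upto T.chkName 88599 := upto_add uN_88180 rfl cN_88180
theorem uN_88984 : Upto T.chkName 88984 := upto_add uN_88599 rfl cN_88599
theorem uN_89352 : Upto T.chkName 89352 := upto_add uN_88984 rfl cN_88984
theorem uN_89735 : Upto T.chkName 89735 := upto_add uN_89352 rfl cN_89352
theorem uN_90151 : Upto T.chkName 90151 := upto_add uN_89735 rfl cN_89735
theorem uN_90537 : Upto T.chkName 90537 := upto_add uN_90151 rfl cN_90151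
theorem uN_90937 : Upto T.chkName 90937 := upto_add uN_90537 rfl cN_90537
theorem uN_91298 : Upto T.chkName 91298 := upto_add uN_90937 rfl cN_90937
theorem uN_91674 : Upto T.chkName 91674 := upto_add uN_91298 rfl cN_91298
theorem uN_92052 : Upto T.chkName 92052 := upto_add uN_91674 rfl cN_91674
theorem uN_92431 : Upto T.chkName 92431 := upto_add uN_92052 rfl cN_92052
theorem uN_92798 : Upto T.chkName 92798 := upto_add uN_92431 rfl cN_92431
theorem uN_93145 : Upto T.chkName 93145 := upto_add uN_92798 rfl cN_92798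
theorem uN_93509 : Upto T.chkName 93509 := upto_add uN_93145 rfl cN_93145
theorem uN_93892 : Upto T.chkName 93892 := upto_add uN_93509 rfl cN_93509
theorem uN_94218 : Upto T.chkName 94218 := upto_add uN_93892 rfl cN_93892
theorem uN_94545 : Upto T.chkName 94545 := upto_add uN_94218 rfl cN_94218
theorem uN_94913 : Upto T.chkName 94913 := upto_add uN_94545 rfl cN_94545
theorem uN_95278 : Upto T.chkName 95278 := upto_add uN_94913 rfl cN_94913
theorem uN_95673 : Upto T.chkName 95673 := upto_add uN_95278 rfl cN_95278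
theorem uN_96049 : Upto T.chkName 96049 := upto_add uN_95673 rfl cN_95673
theorem uN_96427 : Upto T.chkName 96427 := upto_add uN_96049 rfl cN_96049
theorem uN_96809 : Upto T.chkName 96809 := upto_add uN_96427 rfl cN_96427
theorem uN_97223 : Upto T.chkName 97223 := upto_add uN_96809 rfl cN_96809
theorem uN_97645 : Upto T.chkName 97645 := upto_add uN_97223 rfl cN_97223
theorem uN_98030 : Upto T.chkName 98030 := upto_add uN_97645 rfl cN_97645
theorem uN_98447 : Upto T.chkName 98447 := upto_add uN_98030 rfl cN_98030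
theorem uN_98849 : Upto T.chkName 98849 := upto_add uN_98447 rfl cN_98447
theorem uN_99263 : Upto T.chkName 99263 := upto_add uN_98849 rfl cN_98849
theorem uN_99656 : Upto T.chkName 99656 := upto_add uN_99263 rfl cN_99263
theorem uN_100068 : Upto T.chkName 100068 := upto_add uN_99656 rfl cN_99656
theorem uN_100479 : Upto T.chkName 100479 := upto_add uN_100068 rfl cN_100068
theorem uN_100862 : Upto T.chkName 100862 := upto_add uN_100479 rfl cN_100479
theorem uN_101250 : Upto T.chkName 101250 := upto_add uN_100862 rfl cN_100862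
theorem uN_101661 : Upto T.chkName 101661 := upto_add uN_101250 rfl cN_101250
theorem uN_102077 : Upto T.chkName 102077 := upto_add uN_101661 rfl cN_101661
theorem uN_102473 : Upto T.chkName 102473 := upto_add uN_102077 rfl cN_102077
theorem uN_102889 : Upto T.chkName 102889 := upto_add uN_102473 rfl cN_102473
theorem uN_103301 : Upto T.chkName 103301 := upto_add uN_102889 rfl cN_102889
theorem uN_103663 : Upto T.chkName 103663 := upto_add uN_103301 rfl cN_103301
theorem uN_103993 : Upto T.chkName 103993 := upto_add uN_103663 rfl cN_103663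
theorem uN_104355 : Upto T.chkName 104355 := upto_add uN_103993 rfl cN_103993
theorem uN_104731 : Upto T.chkName 104731 := upto_add uN_104355 rfl cN_104355
theorem uN_105129 : Upto T.chkName 105129 := upto_add uN_104731 rfl cN_104731
theorem uN_105515 : Upto T.chkName 105515 := upto_add uN_105129 rfl cN_105129
theorem uN_105899 : Upto T.chkName 105899 := upto_add uN_105515 rfl cN_105515
theorem uN_106290 : Upto T.chkName 106290 := upto_add uN_105899 rfl cN_105899
theorem uN_106682 : Upto T.chkName 106682 := upto_add uN_106290 rfl cN_106290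
theorem uN_107069 : Upto T.chkName 107069 := upto_add uN_106682 rfl cN_106682
theorem uN_107467 : Upto T.chkName 107467 := upto_add uN_107069 rfl cN_107069
theorem uN_107853 : Upto T.chkName 107853 := upto_add uN_107467 rfl cN_107467
theorem uN_108237 : Upto T.chkName 108237 := upto_add uN_107853 rfl cN_107853
theorem uN_108623 : Upto T.chkName 108623 := upto_add uN_108237 rfl cN_108237
theorem uN_109017 : Upto T.chkName 109017 := upto_add uN_108623 rfl cN_108623
theorem uN_109409 : Upto T.chkName 109409 := upto_add uN_109017 rfl cN_109017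
theorem uN_109811 : Upto T.chkName 109811 := upto_add uN_109409 rfl cN_109409
theorem uN_110181 : Upto T.chkName 110181 := upto_add uN_109811 rfl cN_109811
theorem uN_110573 : Upto T.chkName 110573 := upto_add uN_110181 rfl cN_110181
theorem uN_110970 : Upto T.chkName 110970 := upto_add uN_110573 rfl cN_110573
theorem uN_111356 : Upto T.chkName 111356 := upto_add uN_110970 rfl cN_110970
theorem uN_111733 : Upto T.chkName 111733 := upto_add uN_111356 rfl cN_111356
theorem uN_112100 : Upto T.chkName 112100 := upto_add uN_111733 rfl cN_111733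
theorem uN_112490 : Upto T.chkName 112490 := upto_add uN_112100 rfl cN_112100
theorem uN_112896 : Upto T.chkName 112896 := upto_add uN_112490 rfl cN_112490
theorem uN_113272 : Upto T.chkName 113272 := upto_add uN_112896 rfl cN_112896
theorem uN_113656 : Upto T.chkName 113656 := upto_add uN_113272 rfl cN_113272
theorem uN_114036 : Upto T.chkName 114036 := upto_add uN_113656 rfl cN_113656
theorem uN_114414 : Upto T.chkName 114414 := upto_add uN_114036 rfl cN_114036
theorem uN_114813 : Upto T.chkName 114813 := upto_add uN_114414 rfl cN_114414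
theorem uN_115214 : Upto T.chkName 115214 := upto_add uN_114813 rfl cN_114813
theorem uN_115617 : Upto T.chkName 115617 := upto_add uN_115214 rfl cN_115214
theorem uN_116017 : Upto T.chkName 116017 := upto_add uN_115617 rfl cN_115617
theorem uN_116444 : Upto T.chkName 116444 := upto_add uN_116017 rfl cN_116017
theorem uN_116830 : Upto T.chkName 116830 := upto_add uN_116444 rfl cN_116444
theorem uN_117236 : Upto T.chkName 117236 := upto_add uN_116830 rfl cN_116830
theorem uN_117681 : Upto T.chkName 117681 := upto_add uN_117236 rfl cN_117236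
theorem uN_118097 : Upto T.chkName 118097 := upto_add uN_117681 rfl cN_117681
theorem uN_118508 : Upto T.chkName 118508 := upto_add uN_118097 rfl cN_118097
theorem uN_118944 : Upto T.chkName 118944 := upto_add uN_118508 rfl cN_118508
theorem uN_119363 : Upto T.chkName 119363 := upto_add uN_118944 rfl cN_118944
theorem uN_119775 : Upto T.chkName 119775 := upto_add uN_119363 rfl cN_119363
theorem uN_120178 : Upto T.chkName 120178 := upto_add uN_119775 rfl cN_119775
theorem uN_120620 : Upto T.chkName 120620 := upto_add uN_120178 rfl cN_120178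
theorem uN_121047 : Upto T.chkName 121047 := upto_add uN_120620 rfl cN_120620
theorem uN_121452 : Upto T.chkName 121452 := upto_add uN_121047 rfl cN_121047
theorem uN_121870 : Upto T.chkName 121870 := upto_add uN_121452 rfl cN_121452
theorem uN_122310 : Upto T.chkName 122310 := upto_add uN_121870 rfl cN_121870
theorem uN_122717 : Upto T.chkName 122717 := upto_add uN_122310 rfl cN_122310
theorem uN_123128 : Upto T.chkName 123128 := upto_add uN_122717 rfl cN_122717
theorem uN_123556 : Upto T.chkName 123556 := upto_add uN_123128 rfl cN_123128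
theorem uN_123985 : Upto T.chkName 123985 := upto_add uN_123556 rfl cN_123556
theorem uN_124407 : Upto T.chkName 124407 := upto_add uN_123985 rfl cN_123985
theorem uN_124834 : Upto T.chkName 124834 := upto_add uN_124407 rfl cN_124407
theorem uN_125250 : Upto T.chkName 125250 := upto_add uN_124834 rfl cN_124834
theorem uN_125672 : Upto T.chkName 125672 := upto_add uN_125250 rfl cN_125250
theorem uN_126084 : Upto T.chkName 126084 := upto_add uN_125672 rfl cN_125672
theorem uN_126509 : Upto T.chkName 126509 := upto_add uN_126084 rfl cN_126084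
theorem uN_126929 : Upto T.chkName 126929 := upto_add uN_126509 rfl cN_126509
theorem uN_127335 : Upto T.chkName 127335 := upto_add uN_126929 rfl cN_126929
theorem uN_127772 : Upto T.chkName 127772 := upto_add uN_127335 rfl cN_127335
theorem uN_128173 : Upto T.chkName 128173 := upto_add uN_127772 rfl cN_127772
theorem uN_128589 : Upto T.chkName 128589 := upto_add uN_128173 rfl cN_128173
theorem uN_128989 : Upto T.chkName 128989 := upto_add uN_128589 rfl cN_128589
theorem uN_129397 : Upto T.chkName 129397 := upto_add uN_128989 rfl cN_128989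
theorem uN_129838 : Upto T.chkName 129838 := upto_add uN_129397 rfl cN_129397
theorem uN_130219 : Upto T.chkName 130219 := upto_add uN_129838 rfl cN_129838
theorem uN_130629 : Upto T.chkName 130629 := upto_add uN_130219 rfl cN_130219
theorem uN_131034 : Upto T.chkName 131034 := upto_add uN_130629 rfl cN_130629
theorem uN_131462 : Upto T.chkName 131462 := upto_add uN_131034 rfl cN_131034
theorem uN_131845 : Upto T.chkName 131845 := upto_add uN_131462 rfl cN_131462
theorem uN_132236 : Upto T.chkName 132236 := upto_add uN_131845 rfl cN_131845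
theorem uN_132622 : Upto T.chkName 132622 := upto_add uN_132236 rfl cN_132236
theorem uN_133013 : Upto T.chkName 133013 := upto_add uN_132622 rfl cN_132622
theorem uN_133370 : Upto T.chkName 133370 := upto_add uN_133013 rfl cN_133013
theorem uN_133761 : Upto T.chkName 133761 := upto_add uN_133370 rfl cN_133370
theorem uN_134185 : Upto T.chkName 134185 := upto_add uN_133761 rfl cN_133761
theorem uN_134585 : Upto T.chkName 134585 := upto_add uN_134185 rfl cN_134185
theorem uN_134985 : Upto T.chkName 134985 := upto_add uN_134585 rfl cN_134585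
theorem uN_135381 : Upto T.chkName 135381 := upto_add uN_134985 rfl cN_134985
theorem uN_135804 : Upto T.chkName 135804 := upto_add uN_135381 rfl cN_135381
theorem uN_136228 : Upto T.chkName 136228 := upto_add uN_135804 rfl cN_135804
theorem uN_136662 : Upto T.chkName 136662 := upto_add uN_136228 rfl cN_136228
theorem uN_137049 : Upto T.chkName 137049 := upto_add uN_136662 rfl cN_136662
theorem uN_137462 : Upto T.chkName 137462 := upto_add uN_137049 rfl cN_137049
theorem uN_137888 : Upto T.chkName 137888 := upto_add uN_137462 rfl cN_137462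
theorem uN_138308 : Upto T.chkName 138308 := upto_add uN_137888 rfl cN_137888
theorem uN_138743 : Upto T.chkName 138743 := upto_add uN_138308 rfl cN_138308
theorem uN_139196 : Upto T.chkName 139196 := upto_add uN_138743 rfl cN_138743
theorem uN_139646 : Upto T.chkName 139646 := upto_add uN_139196 rfl cN_139196
theorem uN_140046 : Upto T.chkName 140046 := upto_add uN_139646 rfl cN_139646
theorem uN_140446 : Upto T.chkName 140446 := upto_add uN_140046 rfl cN_140046
theorem uN_140861 : Upto T.chkName 140861 := upto_add uN_140446 rfl cN_140446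
theorem uN_141287 : Upto T.chkName 141287 := upto_add uN_140861 rfl cN_140861
theorem uN_141705 : Upto T.chkName 141705 := upto_add uN_141287 rfl cN_141287
theorem uN_142134 : Upto T.chkName 142134 := upto_add uN_141705 rfl cN_141705
theorem uN_142562 : Upto T.chkName 142562 := upto_add uN_142134 rfl cN_142134
theorem uN_143016 : Upto T.chkName 143016 := upto_add uN_142562 rfl cN_142562
theorem uN_143437 : Upto T.chkName 143437 := upto_add uN_143016 rfl cN_143016
theorem uN_143879 : Upto T.chkName 143879 := upto_add uN_143437 rfl cN_143437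
theorem uN_144314 : Upto T.chkName 144314 := upto_add uN_143879 rfl cN_143879
theorem uN_144734 : Upto T.chkName 144734 := upto_add uN_144314 rfl cN_144314
theorem uN_145144 : Upto T.chkName 145144 := upto_add uN_144734 rfl cN_144734
theorem uN_145594 : Upto T.chkName 145594 := upto_add uN_145144 rfl cN_145144
theorem uN_146000 : Upto T.chkName 146000 := upto_add uN_145594 rfl cN_145594
theorem uN_146437 : Upto T.chkName 146437 := upto_add uN_146000 rfl cN_146000
theorem uN_146858 : Upto T.chkName 146858 := upto_add uN_146437 rfl cN_146437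
theorem uN_147278 : Upto T.chkName 147278 := upto_add uN_146858 rfl cN_146858
theorem uN_147692 : Upto T.chkName 147692 := upto_add uN_147278 rfl cN_147278
theorem uN_148147 : Upto T.chkName 148147 := upto_add uN_147692 rfl cN_147692
theorem uN_148570 : Upto T.chkName 148570 := upto_add uN_148147 rfl cN_148147
theorem uN_149023 : Upto T.chkName 149023 := upto_add uN_148570 rfl cN_148570
theorem uN_149492 : Upto T.chkName 149492 := upto_add uN_149023 rfl cN_149023
theorem uN_149944 : Upto T.chkName 149944 := upto_add uN_149492 rfl cN_149492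
theorem uN_150415 : Upto T.chkName 150415 := upto_add uN_149944 rfl cN_149944
theorem uN_150867 : Upto T.chkName 150867 := upto_add uN_150415 rfl cN_150415
theorem uN_151323 : Upto T.chkName 151323 := upto_add uN_150867 rfl cN_150867
theorem uN_151775 : Upto T.chkName 151775 := upto_add uN_151323 rfl cN_151323
theorem uN_152212 : Upto T.chkName 152212 := upto_add uN_151775 rfl cN_151775
theorem uN_152644 : Upto T.chkName 152644 := upto_add uN_152212 rfl cN_152212
theorem uN_153080 : Upto T.chkName 153080 := upto_add uN_152644 rfl cN_152644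
theorem uN_153501 : Upto T.chkName 153501 := upto_add uN_153080 rfl cN_153080
theorem uN_153905 : Upto T.chkName 153905 := upto_add uN_153501 rfl cN_153501
theorem uN_154323 : Upto T.chkName 154323 := upto_add uN_153905 rfl cN_153905
theorem uN_154765 : Upto T.chkName 154765 := upto_add uN_154323 rfl cN_154323
theorem uN_155184 : Upto T.chkName 155184 := upto_add uN_154765 rfl cN_154765
theorem uN_155568 : Upto T.chkName 155568 := upto_add uN_155184 rfl cN_155184
theorem uN_155985 : Upto T.chkName 155985 := upto_add uN_155568 rfl cN_155568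
theorem uN_156378 : Upto T.chkName 156378 := upto_add uN_155985 rfl cN_155985
theorem uN_156790 : Upto T.chkName 156790 := upto_add uN_156378 rfl cN_156378
theorem uN_157210 : Upto T.chkName 157210 := upto_add uN_156790 rfl cN_156790
theorem uN_157636 : Upto T.chkName 157636 := upto_add uN_157210 rfl cN_157210
theorem uN_158064 : Upto T.chkName 158064 := upto_add uN_157636 rfl cN_157636
theorem uN_158513 : Upto T.chkName 158513 := upto_add uN_158064 rfl cN_158064
theorem uN_158973 : Upto T.chkName 158973 := upto_add uN_158513 rfl cN_158513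
theorem uN_159410 : Upto T.chkName 159410 := upto_add uN_158973 rfl cN_158973
theorem uN_159828 : Upto T.chkName 159828 := upto_add uN_159410 rfl cN_159410
theorem uN_160252 : Upto T.chkName 160252 := upto_add uN_159828 rfl cN_159828
theorem uN_160680 : Upto T.chkName 160680 := upto_add uN_160252 rfl cN_160252
theorem uN_161103 : Upto T.chkName 161103 := upto_add uN_160680 rfl cN_160680
theorem uN_161506 : Upto T.chkName 161506 := upto_add uN_161103 rfl cN_161103
theorem uN_161947 : Upto T.chkName 161947 := upto_add uN_161506 rfl cN_161506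
theorem uN_162361 : Upto T.chkName 162361 := upto_add uN_161947 rfl cN_161947
theorem uN_162792 : Upto T.chkName 162792 := upto_add uN_162361 rfl cN_162361
theorem uN_163211 : Upto T.chkName 163211 := upto_add uN_162792 rfl cN_162792
theorem uN_163613 : Upto T.chkName 163613 := upto_add uN_163211 rfl cN_163211
theorem uN_164031 : Upto T.chkName 164031 := upto_add uN_163613 rfl cN_163613
theorem uN_164479 : Upto T.chkName 164479 := upto_add uN_164031 rfl cN_164031
theorem uN_164916 : Upto T.chkName 164916 := upto_add uN_164479 rfl cN_164479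
theorem uN_165351 : Upto T.chkName 165351 := upto_add uN_164916 rfl cN_164916
theorem uN_165775 : Upto T.chkName 165775 := upto_add uN_165351 rfl cN_165351
theorem uN_166198 : Upto T.chkName 166198 := upto_add uN_165775 rfl cN_165775
theorem uN_166609 : Upto T.chkName 166609 := upto_add uN_166198 rfl cN_166198
theorem uN_167061 : Upto T.chkName 167061 := upto_add uN_166609 rfl cN_166609
theorem uN_167512 : Upto T.chkName 167512 := upto_add uN_167061 rfl cN_167061
theorem uN_167959 : Upto T.chkName 167959 := upto_add uN_167512 rfl cN_167512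
theorem uN_168417 : Upto T.chkName 168417 := upto_add uN_167959 rfl cN_167959
theorem uN_168860 : Upto T.chkName 168860 := upto_add uN_168417 rfl cN_168417
theorem uN_169308 : Upto T.chkName 169308 := upto_add uN_168860 rfl cN_168860
theorem uN_169761 : Upto T.chkName 169761 := upto_add uN_169308 rfl cN_169308
theorem uN_170199 : Upto T.chkName 170199 := upto_add uN_169761 rfl cN_169761
theorem uN_170615 : Upto T.chkName 170615 := upto_add uN_170199 rfl cN_170199
theorem uN_171023 : Upto T.chkName 171023 := upto_add uN_170615 rfl cN_170615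
theorem uN_171470 : Upto T.chkName 171470 := upto_add uN_171023 rfl cN_171023
theorem uN_171871 : Upto T.chkName 171871 := upto_add uN_171470 rfl cN_171470
theorem uN_172301 : Upto T.chkName 172301 := upto_add uN_171871 rfl cN_171871
theorem uN_172732 : Upto T.chkName 172732 := upto_add uN_172301 rfl cN_172301
theorem uN_173180 : Upto T.chkName 173180 := upto_add uN_172732 rfl cN_172732
theorem uN_173584 : Upto T.chkName 173584 := upto_add uN_173180 rfl cN_173180
theorem uN_174018 : Upto T.chkName 174018 := upto_add uN_173584 rfl cN_173584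
theorem uN_174468 : Upto T.chkName 174468 := upto_add uN_174018 rfl cN_174018
theorem uN_174922 : Upto T.chkName 174922 := upto_add uN_174468 rfl cN_174468
theorem uN_175304 : Upto T.chkName 175304 := upto_add uN_174922 rfl cN_174922
theorem uV_29 : Upto T.chkV 29 := upto_add (upto_zero T.chkV) rfl cV_0
theorem uV_58 : Upto T.chkV 58 := upto_add uV_29 rfl cV_29
theorem uV_87 : Upto T.chkV 87 := upto_add uV_58 rfl cV_58
theorem uV_116 : Upto T.chkV 116 := upto_add uV_87 rfl cV_87
theorem uV_145 : Upto T.chkV 145 := upto_add uV_116 rfl cV_116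
theorem uV_174 : Upto T.chkV 174 := upto_add uV_145 rfl cV_145
theorem uV_203 : Upto T.chkV 203 := upto_add uV_174 rfl cV_174
theorem uV_232 : Upto T.chkV 232 := upto_add uV_203 rfl cV_203
theorem uV_261 : Upto T.chkV 261 := upto_add uV_232 rfl cV_232
theorem uV_290 : Upto T.chkV 290 := upto_add uV_261 rfl cV_261
theorem uV_319 : Upto T.chkV 319 := upto_add uV_290 rfl cV_290
theorem uV_348 : Upto T.chkV 348 := upto_add uV_319 rfl cV_319
theorem uV_377 : Upto T.chkV 377 := upto_add uV_348 rfl cV_348
theorem uV_406 : Upto T.chkV 406 := upto_add uV_377 rfl cV_377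
theorem uV_435 : Upto T.chkV 435 := upto_add uV_406 rfl cV_406
theorem uV_464 : Upto T.chkV 464 := upto_add uV_435 rfl cV_435
theorem uV_493 : Upto T.chkV 493 := upto_add uV_464 rfl cV_464
theorem uV_522 : Upto T.chkV 522 := upto_add uV_493 rfl cV_493
theorem uV_551 : Upto T.chkV 551 := upto_add uV_522 rfl cV_522
theorem uV_580 : Upto T.chkV 580 := upto_add uV_551 rfl cV_551
theorem uV_609 : Upto T.chkV 609 := upto_add uV_580 rfl cV_580
theorem uV_638 : Upto T.chkV 638 := upto_add uV_609 rfl cV_609
theorem uV_667 : Upto T.chkV 667 := upto_add uV_638 rfl cV_638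
theorem uV_696 : Upto T.chkV 696 := upto_add uV_667 rfl cV_667
theorem uV_725 : Upto T.chkV 725 := upto_add uV_696 rfl cV_696
theorem uV_754 : Upto T.chkV 754 := upto_add uV_725 rfl cV_725
theorem uV_783 : Upto T.chkV 783 := upto_add uV_754 rfl cV_754
theorem uV_812 : Upto T.chkV 812 := upto_add uV_783 rfl cV_783
theorem uV_841 : Upto T.chkV 841 := upto_add uV_812 rfl cV_812
theorem uV_870 : Upto T.chkV 870 := upto_add uV_841 rfl cV_841
theorem uV_899 : Upto T.chkV 899 := upto_add uV_870 rfl cV_870
theorem uV_928 : Upto T.chkV 928 := upto_add uV_899 rfl cV_899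
theorem uV_957 : Upto T.chkV 957 := upto_add uV_928 rfl cV_928
theorem uV_986 : Upto T.chkV 986 := upto_add uV_957 rfl cV_957
theorem uV_1015 : Upto T.chkV 1015 := upto_add uV_986 rfl cV_986
theorem uV_1044 : Upto T.chkV 1044 := upto_add uV_1015 rfl cV_1015
theorem uV_1073 : Upto T.chkV 1073 := upto_add uV_1044 rfl cV_1044
theorem uV_1102 : Upto T.chkV 1102 := upto_add uV_1073 rfl cV_1073
theorem uV_1131 : Upto T.chkV 1131 := upto_add uV_1102 rfl cV_1102
theorem uV_1160 : Upto T.chkV 1160 := upto_add uV_1131 rfl cV_1131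
theorem uV_1189 : Upto T.chkV 1189 := upto_add uV_1160 rfl cV_1160
theorem uV_1218 : Upto T.chkV 1218 := upto_add uV_1189 rfl cV_1189
theorem uV_1247 : Upto T.chkV 1247 := upto_add uV_1218 rfl cV_1218
theorem uV_1276 : Upto T.chkV 1276 := upto_add uV_1247 rfl cV_1247
theorem uV_1305 : Upto T.chkV 1305 := upto_add uV_1276 rfl cV_1276
theorem uV_1334 : Upto T.chkV 1334 := upto_add uV_1305 rfl cV_1305
theorem uV_1363 : Upto T.chkV 1363 := upto_add uV_1334 rfl cV_1334
theorem uV_1392 : Upto T.chkV 1392 := upto_add uV_1363 rfl cV_1363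
theorem uV_1421 : Upto T.chkV 1421 := upto_add uV_1392 rfl cV_1392
theorem uV_1450 : Upto T.chkV 1450 := upto_add uV_1421 rfl cV_1421
theorem uV_1479 : Upto T.chkV 1479 := upto_add uV_1450 rfl cV_1450
theorem uV_1508 : Upto T.chkV 1508 := upto_add uV_1479 rfl cV_1479
theorem uV_1537 : Upto T.chkV 1537 := upto_add uV_1508 rfl cV_1508
theorem uV_1566 : Upto T.chkV 1566 := upto_add uV_1537 rfl cV_1537
theorem uV_1595 : Upto T.chkV 1595 := upto_add uV_1566 rfl cV_1566
theorem uV_1624 : Upto T.chkV 1624 := upto_add uV_1595 rfl cV_1595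
theorem uV_1653 : Upto T.chkV 1653 := upto_add uV_1624 rfl cV_1624
theorem uV_1682 : Upto T.chkV 1682 := upto_add uV_1653 rfl cV_1653
theorem uV_1711 : Upto T.chkV 1711 := upto_add uV_1682 rfl cV_1682
theorem uV_1740 : Upto T.chkV 1740 := upto_add uV_1711 rfl cV_1711
theorem uV_1769 : Upto T.chkV 1769 := upto_add uV_1740 rfl cV_1740
theorem uV_1798 : Upto T.chkV 1798 := upto_add uV_1769 rfl cV_1769
theorem uV_1827 : Upto T.chkV 1827 := upto_add uV_1798 rfl cV_1798
theorem uV_1856 : Upto T.chkV 1856 := upto_add uV_1827 rfl cV_1827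
theorem uV_1885 : Upto T.chkV 1885 := upto_add uV_1856 rfl cV_1856
theorem uV_1914 : Upto T.chkV 1914 := upto_add uV_1885 rfl cV_1885
theorem uV_1943 : Upto T.chkV 1943 := upto_add uV_1914 rfl cV_1914
theorem uV_1972 : Upto T.chkV 1972 := upto_add uV_1943 rfl cV_1943
theorem uV_2001 : Upto T.chkV 2001 := upto_add uV_1972 rfl cV_1972
theorem uV_2030 : Upto T.chkV 2030 := upto_add uV_2001 rfl cV_2001
theorem uV_2059 : Upto T.chkV 2059 := upto_add uV_2030 rfl cV_2030
theorem uV_2088 : Upto T.chkV 2088 := upto_add uV_2059 rfl cV_2059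
theorem uV_2117 : Upto T.chkV 2117 := upto_add uV_2088 rfl cV_2088
theorem uV_2146 : Upto T.chkV 2146 := upto_add uV_2117 rfl cV_2117
theorem uV_2175 : Upto T.chkV 2175 := upto_add uV_2146 rfl cV_2146
theorem uV_2204 : Upto T.chkV 2204 := upto_add uV_2175 rfl cV_2175
theorem uV_2233 : Upto T.chkV 2233 := upto_add uV_2204 rfl cV_2204
theorem uV_2262 : Upto T.chkV 2262 := upto_add uV_2233 rfl cV_2233
theorem uV_2291 : Upto T.chkV 2291 := upto_add uV_2262 rfl cV_2262
theorem uV_2320 : Upto T.chkV 2320 := upto_add uV_2291 rfl cV_2291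
theorem uV_2349 : Upto T.chkV 2349 := upto_add uV_2320 rfl cV_2320
theorem uV_2378 : Upto T.chkV 2378 := upto_add uV_2349 rfl cV_2349
theorem uV_2407 : Upto T.chkV 2407 := upto_add uV_2378 rfl cV_2378
theorem uV_2436 : Upto T.chkV 2436 := upto_add uV_2407 rfl cV_2407
theorem uV_2465 : Upto T.chkV 2465 := upto_add uV_2436 rfl cV_2436
theorem uV_2494 : Upto T.chkV 2494 := upto_add uV_2465 rfl cV_2465
theorem uV_2523 : Upto T.chkV 2523 := upto_add uV_2494 rfl cV_2494
theorem uV_2552 : Upto T.chkV 2552 := upto_add uV_2523 rfl cV_2523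
theorem uV_2581 : Upto T.chkV 2581 := upto_add uV_2552 rfl cV_2552
theorem uV_2610 : Upto T.chkV 2610 := upto_add uV_2581 rfl cV_2581
theorem uV_2639 : Upto T.chkV 2639 := upto_add uV_2610 rfl cV_2610
theorem uV_2668 : Upto T.chkV 2668 := upto_add uV_2639 rfl cV_2639
theorem uV_2697 : Upto T.chkV 2697 := upto_add uV_2668 rfl cV_2668
theorem uV_2726 : Upto T.chkV 2726 := upto_add uV_2697 rfl cV_2697
theorem uV_2755 : Upto T.chkV 2755 := upto_add uV_2726 rfl cV_2726
theorem uV_2784 : Upto T.chkV 2784 := upto_add uV_2755 rfl cV_2755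
theorem uV_2813 : Upto T.chkV 2813 := upto_add uV_2784 rfl cV_2784
theorem uV_2842 : Upto T.chkV 2842 := upto_add uV_2813 rfl cV_2813
theorem uV_2871 : Upto T.chkV 2871 := upto_add uV_2842 rfl cV_2842
theorem uV_2900 : Upto T.chkV 2900 := upto_add uV_2871 rfl cV_2871
theorem uV_2929 : Upto T.chkV 2929 := upto_add uV_2900 rfl cV_2900
theorem uV_2958 : Upto T.chkV 2958 := upto_add uV_2929 rfl cV_2929
theorem uV_2987 : Upto T.chkV 2987 := upto_add uV_2958 rfl cV_2958
theorem uV_3016 : Upto T.chkV 3016 := upto_add uV_2987 rfl cV_2987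
theorem uV_3045 : Upto T.chkV 3045 := upto_add uV_3016 rfl cV_3016
theorem uV_3074 : Upto T.chkV 3074 := upto_add uV_3045 rfl cV_3045
theorem uV_3103 : Upto T.chkV 3103 := upto_add uV_3074 rfl cV_3074
theorem uV_3132 : Upto T.chkV 3132 := upto_add uV_3103 rfl cV_3103
theorem uV_3161 : Upto T.chkV 3161 := upto_add uV_3132 rfl cV_3132
theorem uV_3190 : Upto T.chkV 3190 := upto_add uV_3161 rfl cV_3161
theorem uV_3219 : Upto T.chkV 3219 := upto_add uV_3190 rfl cV_3190
theorem uV_3248 : Upto T.chkV 3248 := upto_add uV_3219 rfl cV_3219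
theorem uV_3277 : Upto T.chkV 3277 := upto_add uV_3248 rfl cV_3248
theorem uV_3306 : Upto T.chkV 3306 := upto_add uV_3277 rfl cV_3277
theorem uV_3335 : Upto T.chkV 3335 := upto_add uV_3306 rfl cV_3306
theorem uV_3364 : Upto T.chkV 3364 := upto_add uV_3335 rfl cV_3335
theorem uV_3393 : Upto T.chkV 3393 := upto_add uV_3364 rfl cV_3364
theorem uV_3422 : Upto T.chkV 3422 := upto_add uV_3393 rfl cV_3393
theorem uV_3451 : Upto T.chkV 3451 := upto_add uV_3422 rfl cV_3422
theorem uV_3480 : Upto T.chkV 3480 := upto_add uV_3451 rfl cV_3451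
theorem uV_3509 : Upto T.chkV 3509 := upto_add uV_3480 rfl cV_3480
theorem uV_3538 : Upto T.chkV 3538 := upto_add uV_3509 rfl cV_3509
theorem uV_3567 : Upto T.chkV 3567 := upto_add uV_3538 rfl cV_3538
theorem uV_3596 : Upto T.chkV 3596 := upto_add uV_3567 rfl cV_3567
theorem uV_3625 : Upto T.chkV 3625 := upto_add uV_3596 rfl cV_3596
theorem uV_3654 : Upto T.chkV 3654 := upto_add uV_3625 rfl cV_3625
theorem uV_3683 : Upto T.chkV 3683 := upto_add uV_3654 rfl cV_3654
theorem uV_3712 : Upto T.chkV 3712 := upto_add uV_3683 rfl cV_3683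
theorem uV_3741 : Upto T.chkV 3741 := upto_add uV_3712 rfl cV_3712
theorem uV_3770 : Upto T.chkV 3770 := upto_add uV_3741 rfl cV_3741
theorem uV_3799 : Upto T.chkV 3799 := upto_add uV_3770 rfl cV_3770
theorem uV_3828 : Upto T.chkV 3828 := upto_add uV_3799 rfl cV_3799
theorem uV_3857 : Upto T.chkV 3857 := upto_add uV_3828 rfl cV_3828
theorem uV_3886 : Upto T.chkV 3886 := upto_add uV_3857 rfl cV_3857
theorem uV_3915 : Upto T.chkV 3915 := upto_add uV_3886 rfl cV_3886
theorem uV_3944 : Upto T.chkV 3944 := upto_add uV_3915 rfl cV_3915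
theorem uV_3973 : Upto T.chkV 3973 := upto_add uV_3944 rfl cV_3944
theorem uV_4002 : Upto T.chkV 4002 := upto_add uV_3973 rfl cV_3973
theorem uV_4031 : Upto T.chkV 4031 := upto_add uV_4002 rfl cV_4002
theorem uV_4060 : Upto T.chkV 4060 := upto_add uV_4031 rfl cV_4031
theorem uV_4089 : Upto T.chkV 4089 := upto_add uV_4060 rfl cV_4060
theorem uV_4118 : Upto T.chkV 4118 := upto_add uV_4089 rfl cV_4089
theorem uV_4147 : Upto T.chkV 4147 := upto_add uV_4118 rfl cV_4118
theorem uV_4176 : Upto T.chkV 4176 := upto_add uV_4147 rfl cV_4147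
theorem uV_4205 : Upto T.chkV 4205 := upto_add uV_4176 rfl cV_4176
theorem uV_4234 : Upto T.chkV 4234 := upto_add uV_4205 rfl cV_4205
theorem uV_4263 : Upto T.chkV 4263 := upto_add uV_4234 rfl cV_4234
theorem uV_4292 : Upto T.chkV 4292 := upto_add uV_4263 rfl cV_4263
theorem uV_4321 : Upto T.chkV 4321 := upto_add uV_4292 rfl cV_4292
theorem uV_4350 : Upto T.chkV 4350 := upto_add uV_4321 rfl cV_4321
theorem uV_4379 : Upto T.chkV 4379 := upto_add uV_4350 rfl cV_4350
theorem uV_4408 : Upto T.chkV 4408 := upto_add uV_4379 rfl cV_4379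
theorem uV_4437 : Upto T.chkV 4437 := upto_add uV_4408 rfl cV_4408
theorem uV_4466 : Upto T.chkV 4466 := upto_add uV_4437 rfl cV_4437
theorem uV_4495 : Upto T.chkV 4495 := upto_add uV_4466 rfl cV_4466
theorem uV_4524 : Upto T.chkV 4524 := upto_add uV_4495 rfl cV_4495
theorem uV_4553 : Upto T.chkV 4553 := upto_add uV_4524 rfl cV_4524
theorem uV_4582 : Upto T.chkV 4582 := upto_add uV_4553 rfl cV_4553
theorem uV_4611 : Upto T.chkV 4611 := upto_add uV_4582 rfl cV_4582
theorem uV_4640 : Upto T.chkV 4640 := upto_add uV_4611 rfl cV_4611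
theorem uV_4669 : Upto T.chkV 4669 := upto_add uV_4640 rfl cV_4640
theorem uV_4698 : Upto T.chkV 4698 := upto_add uV_4669 rfl cV_4669
theorem uV_4727 : Upto T.chkV 4727 := upto_add uV_4698 rfl cV_4698
theorem uV_4756 : Upto T.chkV 4756 := upto_add uV_4727 rfl cV_4727
theorem uV_4785 : Upto T.chkV 4785 := upto_add uV_4756 rfl cV_4756
theorem uV_4814 : Upto T.chkV 4814 := upto_add uV_4785 rfl cV_4785
theorem uV_4843 : Upto T.chkV 4843 := upto_add uV_4814 rfl cV_4814
theorem uV_4872 : Upto T.chkV 4872 := upto_add uV_4843 rfl cV_4843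
theorem uV_4901 : Upto T.chkV 4901 := upto_add uV_4872 rfl cV_4872
theorem uV_4930 : Upto T.chkV 4930 := upto_add uV_4901 rfl cV_4901
theorem uV_4959 : Upto T.chkV 4959 := upto_add uV_4930 rfl cV_4930
theorem uV_4988 : Upto T.chkV 4988 := upto_add uV_4959 rfl cV_4959
theorem uV_5017 : Upto T.chkV 5017 := upto_add uV_4988 rfl cV_4988
theorem uV_5046 : Upto T.chkV 5046 := upto_add uV_5017 rfl cV_5017
theorem uV_5075 : Upto T.chkV 5075 := upto_add uV_5046 rfl cV_5046
theorem uV_5104 : Upto T.chkV 5104 := upto_add uV_5075 rfl cV_5075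
theorem uV_5133 : Upto T.chkV 5133 := upto_add uV_5104 rfl cV_5104
theorem uV_5162 : Upto T.chkV 5162 := upto_add uV_5133 rfl cV_5133
theorem uV_5191 : Upto T.chkV 5191 := upto_add uV_5162 rfl cV_5162
theorem uV_5220 : Upto T.chkV 5220 := upto_add uV_5191 rfl cV_5191
theorem uV_5249 : Upto T.chkV 5249 := upto_add uV_5220 rfl cV_5220
theorem uV_5278 : Upto T.chkV 5278 := upto_add uV_5249 rfl cV_5249
theorem uV_5307 : Upto T.chkV 5307 := upto_add uV_5278 rfl cV_5278
theorem uV_5336 : Upto T.chkV 5336 := upto_add uV_5307 rfl cV_5307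
theorem uV_5365 : Upto T.chkV 5365 := upto_add uV_5336 rfl cV_5336
theorem uV_5394 : Upto T.chkV 5394 := upto_add uV_5365 rfl cV_5365
theorem uV_5423 : Upto T.chkV 5423 := upto_add uV_5394 rfl cV_5394
theorem uV_5452 : Upto T.chkV 5452 := upto_add uV_5423 rfl cV_5423
theorem uV_5481 : Upto T.chkV 5481 := upto_add uV_5452 rfl cV_5452
theorem uV_5510 : Upto T.chkV 5510 := upto_add uV_5481 rfl cV_5481
theorem uV_5539 : Upto T.chkV 5539 := upto_add uV_5510 rfl cV_5510
theorem uV_5568 : Upto T.chkV 5568 := upto_add uV_5539 rfl cV_5539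
theorem uV_5597 : Upto T.chkV 5597 := upto_add uV_5568 rfl cV_5568
theorem uV_5626 : Upto T.chkV 5626 := upto_add uV_5597 rfl cV_5597
theorem uV_5655 : Upto T.chkV 5655 := upto_add uV_5626 rfl cV_5626
theorem uV_5684 : Upto T.chkV 5684 := upto_add uV_5655 rfl cV_5655
theorem uV_5713 : Upto T.chkV 5713 := upto_add uV_5684 rfl cV_5684
theorem uV_5742 : Upto T.chkV 5742 := upto_add uV_5713 rfl cV_5713
theorem uV_5771 : Upto T.chkV 5771 := upto_add uV_5742 rfl cV_5742
theorem uV_5800 : Upto T.chkV 5800 := upto_add uV_5771 rfl cV_5771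
theorem uV_5829 : Upto T.chkV 5829 := upto_add uV_5800 rfl cV_5800
theorem uV_5858 : Upto T.chkV 5858 := upto_add uV_5829 rfl cV_5829
theorem uV_5887 : Upto T.chkV 5887 := upto_add uV_5858 rfl cV_5858
theorem uV_5916 : Upto T.chkV 5916 := upto_add uV_5887 rfl cV_5887
theorem uV_5945 : Upto T.chkV 5945 := upto_add uV_5916 rfl cV_5916
theorem uV_5974 : Upto T.chkV 5974 := upto_add uV_5945 rfl cV_5945
theorem uV_6003 : Upto T.chkV 6003 := upto_add uV_5974 rfl cV_5974
theorem uV_6032 : Upto T.chkV 6032 := upto_add uV_6003 rfl cV_6003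
theorem uV_6061 : Upto T.chkV 6061 := upto_add uV_6032 rfl cV_6032
theorem uV_6090 : Upto T.chkV 6090 := upto_add uV_6061 rfl cV_6061
theorem uV_6119 : Upto T.chkV 6119 := upto_add uV_6090 rfl cV_6090
theorem uV_6148 : Upto T.chkV 6148 := upto_add uV_6119 rfl cV_6119
theorem uV_6177 : Upto T.chkV 6177 := upto_add uV_6148 rfl cV_6148
theorem uV_6206 : Upto T.chkV 6206 := upto_add uV_6177 rfl cV_6177
theorem uV_6235 : Upto T.chkV 6235 := upto_add uV_6206 rfl cV_6206
theorem uV_6264 : Upto T.chkV 6264 := upto_add uV_6235 rfl cV_6235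
theorem uV_6293 : Upto T.chkV 6293 := upto_add uV_6264 rfl cV_6264
theorem uV_6322 : Upto T.chkV 6322 := upto_add uV_6293 rfl cV_6293
theorem uV_6351 : Upto T.chkV 6351 := upto_add uV_6322 rfl cV_6322
theorem uV_6380 : Upto T.chkV 6380 := upto_add uV_6351 rfl cV_6351
theorem uV_6409 : Upto T.chkV 6409 := upto_add uV_6380 rfl cV_6380
theorem uV_6438 : Upto T.chkV 6438 := upto_add uV_6409 rfl cV_6409
theorem uV_6467 : Upto T.chkV 6467 := upto_add uV_6438 rfl cV_6438
theorem uV_6496 : Upto T.chkV 6496 := upto_add uV_6467 rfl cV_6467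
theorem uV_6525 : Upto T.chkV 6525 := upto_add uV_6496 rfl cV_6496
theorem uV_6554 : Upto T.chkV 6554 := upto_add uV_6525 rfl cV_6525
theorem uV_6583 : Upto T.chkV 6583 := upto_add uV_6554 rfl cV_6554
theorem uV_6612 : Upto T.chkV 6612 := upto_add uV_6583 rfl cV_6583
theorem uV_6641 : Upto T.chkV 6641 := upto_add uV_6612 rfl cV_6612
theorem uV_6670 : Upto T.chkV 6670 := upto_add uV_6641 rfl cV_6641
theorem uV_6699 : Upto T.chkV 6699 := upto_add uV_6670 rfl cV_6670
theorem uV_6728 : Upto T.chkV 6728 := upto_add uV_6699 rfl cV_6699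
theorem uV_6757 : Upto T.chkV 6757 := upto_add uV_6728 rfl cV_6728
theorem uV_6786 : Upto T.chkV 6786 := upto_add uV_6757 rfl cV_6757
theorem uV_6815 : Upto T.chkV 6815 := upto_add uV_6786 rfl cV_6786
theorem uV_6844 : Upto T.chkV 6844 := upto_add uV_6815 rfl cV_6815
theorem uV_6873 : Upto T.chkV 6873 := upto_add uV_6844 rfl cV_6844
theorem uV_6902 : Upto T.chkV 6902 := upto_add uV_6873 rfl cV_6873
theorem uV_6931 : Upto T.chkV 6931 := upto_add uV_6902 rfl cV_6902
theorem uV_6960 : Upto T.chkV 6960 := upto_add uV_6931 rfl cV_6931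
theorem uV_6989 : Upto T.chkV 6989 := upto_add uV_6960 rfl cV_6960
theorem uV_7018 : Upto T.chkV 7018 := upto_add uV_6989 rfl cV_6989
theorem uV_7047 : Upto T.chkV 7047 := upto_add uV_7018 rfl cV_7018
theorem uV_7076 : Upto T.chkV 7076 := upto_add uV_7047 rfl cV_7047
theorem uV_7105 : Upto T.chkV 7105 := upto_add uV_7076 rfl cV_7076
theorem uV_7134 : Upto T.chkV 7134 := upto_add uV_7105 rfl cV_7105
theorem uV_7163 : Upto T.chkV 7163 := upto_add uV_7134 rfl cV_7134
theorem uV_7192 : Upto T.chkV 7192 := upto_add uV_7163 rfl cV_7163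
theorem uV_7221 : Upto T.chkV 7221 := upto_add uV_7192 rfl cV_7192
theorem uV_7250 : Upto T.chkV 7250 := upto_add uV_7221 rfl cV_7221
theorem uV_7279 : Upto T.chkV 7279 := upto_add uV_7250 rfl cV_7250
theorem uV_7308 : Upto T.chkV 7308 := upto_add uV_7279 rfl cV_7279
theorem uV_7337 : Upto T.chkV 7337 := upto_add uV_7308 rfl cV_7308
theorem uV_7366 : Upto T.chkV 7366 := upto_add uV_7337 rfl cV_7337
theorem uV_7395 : Upto T.chkV 7395 := upto_add uV_7366 rfl cV_7366
theorem uV_7424 : Upto T.chkV 7424 := upto_add uV_7395 rfl cV_7395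
theorem uV_7453 : Upto T.chkV 7453 := upto_add uV_7424 rfl cV_7424
theorem uV_7482 : Upto T.chkV 7482 := upto_add uV_7453 rfl cV_7453
theorem uV_7511 : Upto T.chkV 7511 := upto_add uV_7482 rfl cV_7482
theorem uV_7540 : Upto T.chkV 7540 := upto_add uV_7511 rfl cV_7511
theorem uV_7569 : Upto T.chkV 7569 := upto_add uV_7540 rfl cV_7540
theorem uV_7598 : Upto T.chkV 7598 := upto_add uV_7569 rfl cV_7569
theorem uV_7627 : Upto T.chkV 7627 := upto_add uV_7598 rfl cV_7598
theorem uV_7656 : Upto T.chkV 7656 := upto_add uV_7627 rfl cV_7627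
theorem uV_7685 : Upto T.chkV 7685 := upto_add uV_7656 rfl cV_7656
theorem uV_7714 : Upto T.chkV 7714 := upto_add uV_7685 rfl cV_7685
theorem uV_7743 : Upto T.chkV 7743 := upto_add uV_7714 rfl cV_7714
theorem uV_7772 : Upto T.chkV 7772 := upto_add uV_7743 rfl cV_7743
theorem uV_7801 : Upto T.chkV 7801 := upto_add uV_7772 rfl cV_7772
theorem uV_7830 : Upto T.chkV 7830 := upto_add uV_7801 rfl cV_7801
theorem uV_7859 : Upto T.chkV 7859 := upto_add uV_7830 rfl cV_7830
theorem uV_7888 : Upto T.chkV 7888 := upto_add uV_7859 rfl cV_7859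
theorem uV_7917 : Upto T.chkV 7917 := upto_add uV_7888 rfl cV_7888
theorem uV_7946 : Upto T.chkV 7946 := upto_add uV_7917 rfl cV_7917
theorem uV_7975 : Upto T.chkV 7975 := upto_add uV_7946 rfl cV_7946
theorem uV_8004 : Upto T.chkV 8004 := upto_add uV_7975 rfl cV_7975
theorem uV_8033 : Upto T.chkV 8033 := upto_add uV_8004 rfl cV_8004
theorem uV_8062 : Upto T.chkV 8062 := upto_add uV_8033 rfl cV_8033
theorem uV_8091 : Upto T.chkV 8091 := upto_add uV_8062 rfl cV_8062
theorem uV_8120 : Upto T.chkV 8120 := upto_add uV_8091 rfl cV_8091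
theorem uV_8149 : Upto T.chkV 8149 := upto_add uV_8120 rfl cV_8120
theorem uV_8178 : Upto T.chkV 8178 := upto_add uV_8149 rfl cV_8149
theorem uV_8207 : Upto T.chkV 8207 := upto_add uV_8178 rfl cV_8178
theorem uV_8236 : Upto T.chkV 8236 := upto_add uV_8207 rfl cV_8207
theorem uV_8265 : Upto T.chkV 8265 := upto_add uV_8236 rfl cV_8236
theorem uV_8294 : Upto T.chkV 8294 := upto_add uV_8265 rfl cV_8265
theorem uV_8323 : Upto T.chkV 8323 := upto_add uV_8294 rfl cV_8294
theorem uV_8352 : Upto T.chkV 8352 := upto_add uV_8323 rfl cV_8323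
theorem uV_8381 : Upto T.chkV 8381 := upto_add uV_8352 rfl cV_8352
theorem uV_8410 : Upto T.chkV 8410 := upto_add uV_8381 rfl cV_8381
theorem uV_8439 : Upto T.chkV 8439 := upto_add uV_8410 rfl cV_8410
theorem uV_8468 : Upto T.chkV 8468 := upto_add uV_8439 rfl cV_8439
theorem uV_8497 : Upto T.chkV 8497 := upto_add uV_8468 rfl cV_8468
theorem uV_8526 : Upto T.chkV 8526 := upto_add uV_8497 rfl cV_8497
theorem uV_8555 : Upto T.chkV 8555 := upto_add uV_8526 rfl cV_8526
theorem uV_8584 : Upto T.chkV 8584 := upto_add uV_8555 rfl cV_8555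
theorem uV_8613 : Upto T.chkV 8613 := upto_add uV_8584 rfl cV_8584
theorem uV_8642 : Upto T.chkV 8642 := upto_add uV_8613 rfl cV_8613
theorem uV_8671 : Upto T.chkV 8671 := upto_add uV_8642 rfl cV_8642
theorem uV_8700 : Upto T.chkV 8700 := upto_add uV_8671 rfl cV_8671
theorem uV_8729 : Upto T.chkV 8729 := upto_add uV_8700 rfl cV_8700
theorem uV_8758 : Upto T.chkV 8758 := upto_add uV_8729 rfl cV_8729
theorem uV_8787 : Upto T.chkV 8787 := upto_add uV_8758 rfl cV_8758
theorem uV_8816 : Upto T.chkV 8816 := upto_add uV_8787 rfl cV_8787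
theorem uV_8845 : Upto T.chkV 8845 := upto_add uV_8816 rfl cV_8816
theorem uV_8874 : Upto T.chkV 8874 := upto_add uV_8845 rfl cV_8845
theorem uV_8903 : Upto T.chkV 8903 := upto_add uV_8874 rfl cV_8874
theorem uV_8932 : Upto T.chkV 8932 := upto_add uV_8903 rfl cV_8903
theorem uV_8960 : Upto T.chkV 8960 := upto_add uV_8932 rfl cV_8932

/-- The certificate is valid. -/
theorem cert : T.Cert where
  h0 := by decide +kernel
  hrx := by decide +kernel
  hs0 := by decide +kernel
  hname := uN_175304
  hV := uV_8960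


end Cfsg.Agent.Lib.Helper56.RSz
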